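import Mathlib.AlgebraicGeometry.Morphisms.FlatRank
import Mathlib.AlgebraicGeometry.Morphisms.Immersion
import Groth.Agent.FpqcDescent.Basic
import Groth.Prelude.Def_W4stkschemesremainderFib
import Groth.Prelude.Def_Mor2

/-!
# Fibre degrees: basic invariance
-/

universe u

open CategoryTheory CategoryTheory.Limits AlgebraicGeometry

namespace Groth.Agent.BddFibLib

variable {T T' : Scheme.{u}}

theorem finiteOfDegLE_iff (k : Type u) [Field k] (p : T ⟶ Spec (.of k)) (n : ℕ) :
    BddFib.FiniteOfDegLE (.of k) p n ↔ IsFinite p ∧ ∀ y, p.finrank y ≤ n := by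
  let φ : CommRingCat.of k ⟶ Γ(T, ⊤) := (Scheme.ΓSpecIso (.of k)).inv ≫ p.appTop
  have hp : ∀ [IsAffine T], p = T.isoSpec.hom ≫ Spec.map φ := by
    intro _
    rw [Spec.map_comp, ← Category.assoc, Scheme.isoSpec_hom_naturality, Category.assoc,
      Scheme.isoSpec_Spec_hom, ← Spec.map_comp]
    simp
  have key : ∀ [IsAffine T], φ.hom.Finite →
      (letI := BddFib.secAlgebra (.of k) p
       ∀ y, p.finrank y = Module.finrank k Γ(T, ⊤)) := by
    intro _ hfin
    letI := BddFib.secAlgebra (.of k) p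
    have : Module.Finite k Γ(T, ⊤) := hfin
    intro y
    have : IsFinite (Spec.map φ) := (IsFinite.SpecMap_iff φ).mpr hfin
    rw [Scheme.Hom.finrank.congr_simp p _ hp y y rfl, Scheme.Hom.finrank_comp_left_of_isIso,
      show φ = CommRingCat.ofHom (algebraMap k Γ(T, ⊤)) from rfl,
      Scheme.Hom.finrank_SpecMap_algebraMap]
    exact congrFun (Module.rankAtStalk_eq_finrank_of_free) y
  constructor
  · rintro ⟨_, hfin, hle⟩
    letI := BddFib.secAlgebra (.of k) p
    have : Module.Finite k Γ(T, ⊤) := hfin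
    have h : φ.hom.Finite := ‹Module.Finite k Γ(T, ⊤)›
    refine ⟨?_, fun y ↦ (key h y).trans_le hle⟩
    have : IsFinite (Spec.map φ) := (IsFinite.SpecMap_iff φ).mpr h
    rw [hp]
    infer_instance
  · rintro ⟨_, hle⟩
    have : IsAffine T := isAffine_of_isAffineHom p
    have h : φ.hom.Finite := by
      rw [CommRingCat.hom_comp]
      exact p.finite_appTop.comp
        (RingHom.Finite.of_surjective _ (ConcreteCategory.bijective_of_isIso _).2)
    refine ⟨‹_›, h, ?_⟩
    obtain ⟨y⟩ : Nonempty (Spec (CommRingCat.of k)) := inferInstance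
    exact (key h y).symm.trans_le (hle y)

theorem finiteOfDegLE_iff_of_isPullback {k k' : Type u} [Field k] [Field k']
    {p : T ⟶ Spec (.of k)} {p' : T' ⟶ Spec (.of k')} {g : T' ⟶ T}
    {σ : Spec (CommRingCat.of k') ⟶ Spec (.of k)} (h : IsPullback g p' p σ) (n : ℕ) :
    BddFib.FiniteOfDegLE (.of k') p' n ↔ BddFib.FiniteOfDegLE (.of k) p n := by
  rw [finiteOfDegLE_iff, finiteOfDegLE_iff]
  have : Surjective σ := ⟨fun y ↦ ⟨Classical.arbitrary _, Subsingleton.elim _ _⟩⟩
  have : QuasiCompact σ := quasiCompact_of_compactSpace σ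
  constructor
  · rintro ⟨h₁, h₂⟩
    have : IsFinite p := MorphismProperty.of_isPullback_of_descendsAlong
      (P := @IsFinite) (Q := @Surjective ⊓ @Flat ⊓ @QuasiCompact) h.flip
      ⟨⟨inferInstance, inferInstance⟩, inferInstance⟩ h₁
    refine ⟨this, fun y ↦ ?_⟩
    obtain ⟨y', rfl⟩ := σ.surjective y
    rw [← Scheme.Hom.finrank_of_isPullback g p' p σ h y']
    exact h₂ y'
  · rintro ⟨h₁, h₂⟩
    refine ⟨MorphismProperty.of_isPullback h h₁, fun y' ↦ ?_⟩
    rw [Scheme.Hom.finrank_of_isPullback g p' p σ h y']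
    exact h₂ _

theorem finiteOfDegLE_of_iso {k : Type u} [Field k] (e : T' ≅ T) (p : T ⟶ Spec (.of k)) (n : ℕ) :
    BddFib.FiniteOfDegLE (.of k) (e.hom ≫ p) n ↔ BddFib.FiniteOfDegLE (.of k) p n :=
  finiteOfDegLE_iff_of_isPullback (σ := 𝟙 _) (g := e.hom) (IsPullback.of_horiz_isIso ⟨by simp⟩) n

variable {X Y : Scheme.{u}} {f : X ⟶ Y}

theorem exists_fieldHom {k : Type u} [Field k] (g : Spec (CommRingCat.of k) ⟶ Y) :
    ∃ (y : Y) (σ : Spec (CommRingCat.of k) ⟶ Spec (Y.residueField y)),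
      σ ≫ Y.fromSpecResidueField y = g :=
  ⟨_, Spec.map (Scheme.descResidueField (Scheme.stalkClosedPointTo g)),
    Scheme.descResidueField_stalkClosedPointTo_fromSpecResidueField k Y g⟩

theorem finiteOfDegLE_of_fibreDegLE {n : ℕ} (hf : BddFib.FibreDegLE f n) {k : Type u} [Field k]
    {T : Scheme.{u}} {a : T ⟶ X} {b : T ⟶ Spec (CommRingCat.of k)}
    {g : Spec (CommRingCat.of k) ⟶ Y} (h : IsPullback a b f g) :
    BddFib.FiniteOfDegLE (.of k) b n := by
  obtain ⟨y, σ, rfl⟩ := exists_fieldHom g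
  have h0 : IsPullback (f.fiberι y) (f.fiberToSpecResidueField y) f (Y.fromSpecResidueField y) :=
    IsPullback.of_hasPullback _ _
  have hw : a ≫ f = (b ≫ σ) ≫ Y.fromSpecResidueField y := by rw [h.w, Category.assoc]
  have h' : IsPullback (h0.lift a (b ≫ σ) hw) b (f.fiberToSpecResidueField y) σ :=
    IsPullback.of_right (by rw [h0.lift_fst]; exact h) (h0.lift_snd _ _ _) h0
  exact (finiteOfDegLE_iff_of_isPullback (k := Y.residueField y) h' n).mpr (hf y)

end Groth.Agent.BddFibLib
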