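import Mathlib.RingTheory.Artinian.Module
import Mathlib.RingTheory.Artinian.Instances
import Mathlib.AlgebraicGeometry.ResidueField
import Mathlib.LinearAlgebra.Dimension.Constructions
import Groth.Agent.BddFibLib.Basic

/-!
# Points of a finite scheme over a field
-/

universe u

open CategoryTheory CategoryTheory.Limits AlgebraicGeometry

namespace Groth.Agent.BddFibLib

theorem Γevaluation_surjective {T : Scheme.{u}} [IsAffine T] (x : T)
    (hmax : ((isAffineOpen_top T).primeIdealOf ⟨x, trivial⟩).asIdeal.IsMaximal) :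
    Function.Surjective (T.Γevaluation x) := by
  intro b
  let hU := isAffineOpen_top T
  obtain ⟨c, rfl⟩ := Scheme.residue_surjective T x b
  let := TopCat.Presheaf.algebra_section_stalk T.presheaf (U := ⊤) ⟨x, trivial⟩
  have := hU.isLocalization_stalk ⟨x, trivial⟩
  let P := (hU.primeIdealOf ⟨x, trivial⟩).asIdeal
  obtain ⟨a, s, rfl⟩ := IsLocalization.exists_mk'_eq P.primeCompl c
  obtain ⟨t, ht⟩ := hmax.exists_inv s.2
  obtain ⟨i, hi, hti⟩ := ht
  refine ⟨a * t, sub_eq_zero.mp ?_⟩
  change T.residue x (algebraMap Γ(T, ⊤) _ (a * t)) - T.residue x _ = 0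
  rw [← map_sub]
  refine (IsLocalRing.residue_eq_zero_iff _).mpr ?_
  have hu : IsUnit (algebraMap Γ(T, ⊤) (T.presheaf.stalk x) s) := IsLocalization.map_units _ s
  suffices algebraMap Γ(T, ⊤) (T.presheaf.stalk x) (a * t * s - a) ∈
      IsLocalRing.maximalIdeal (T.presheaf.stalk x) by
    have e : IsLocalization.mk' (T.presheaf.stalk x) a s *
        algebraMap Γ(T, ⊤) (T.presheaf.stalk x) s = algebraMap Γ(T, ⊤) _ a :=
      IsLocalization.mk'_spec _ a s
    rw [map_sub, map_mul, ← e, ← sub_mul] at this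
    exact (Ideal.mul_unit_mem_iff_mem _ hu).mp this
  rw [IsLocalization.AtPrime.to_map_mem_maximal_iff _ P]
  rw [show a * t * (s : Γ(T, ⊤)) - a = a * (-i) by linear_combination a * hti]
  exact P.mul_mem_left a (P.neg_mem hi)

theorem eq_of_forall_evaluation {T : Scheme.{u}} [IsAffine T] {x y : T}
    (h : ∀ a, T.Γevaluation x a = 0 ↔ T.Γevaluation y a = 0) : x = y := by
  refine Inseparable.eq ((isBasis_basicOpen T).inseparable_iff.mpr ?_)
  rintro _ ⟨_, ⟨a, rfl⟩, rfl⟩
  have hx := not_congr (h a)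
  simp only [Scheme.Γevaluation, Scheme.evaluation_eq_zero_iff_notMem_basicOpen, not_not] at hx
  exact hx

theorem finite_and_finsum_residueDegree_le {k : Type u} [Field k] {T : Scheme.{u}}
    {p : T ⟶ Spec (CommRingCat.of k)} {n : ℕ} (h : BddFib.FiniteOfDegLE (.of k) p n) :
    Finite T ∧ (∀ x, 0 < p.residueDegree x) ∧ ∑ᶠ x, p.residueDegree x ≤ n := by
  obtain ⟨_, hfin, hle⟩ := h
  letI := BddFib.secAlgebra (.of k) p
  have : Module.Finite k Γ(T, ⊤) := hfin
  have : IsArtinianRing Γ(T, ⊤) := IsArtinianRing.of_finite k _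
  have hT : Finite T := have : Finite ↥(Spec Γ(T, ⊤)) := inferInstanceAs (Finite (PrimeSpectrum Γ(T, ⊤)))
    Finite.of_equiv _ T.isoSpec.hom.homeomorph.toEquiv.symm
  have hsurj : ∀ x, Function.Surjective (T.Γevaluation x) := fun x ↦
    Γevaluation_surjective x (IsArtinianRing.isMaximal_of_isPrime _)
  letI alg : ∀ x, Algebra k (T.residueField x) := fun x ↦
    ((T.Γevaluation x).hom.comp (algebraMap k Γ(T, ⊤))).toAlgebra
  let ev : ∀ x, Γ(T, ⊤) →ₐ[k] T.residueField x := fun x ↦
    { (T.Γevaluation x).hom with commutes' := fun _ ↦ rfl }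
  have hcop : Pairwise (Function.onFun IsCoprime fun x ↦ RingHom.ker (ev x)) := by
    intro x y hxy
    rw [Function.onFun, Ideal.isCoprime_iff_sup_eq]
    have hx : (RingHom.ker (ev x)).IsMaximal := RingHom.ker_isMaximal_of_surjective _ (hsurj x)
    have hy : (RingHom.ker (ev y)).IsMaximal := RingHom.ker_isMaximal_of_surjective _ (hsurj y)
    refine hx.coprime_of_ne hy fun he ↦ hxy (eq_of_forall_evaluation fun a ↦ ?_)
    exact SetLike.ext_iff.mp he a
  have := Fintype.ofFinite T
  have hψ : Function.Surjective (LinearMap.pi fun x ↦ (ev x).toLinearMap) := by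
    intro b
    choose c hc using fun x ↦ hsurj x (b x)
    obtain ⟨r, hr⟩ := Ideal.pi_quotient_surjective hcop fun x ↦ (c x : Γ(T, ⊤) ⧸ RingHom.ker (ev x))
    refine ⟨r, funext fun x ↦ ?_⟩
    have := hr x
    rw [Ideal.Quotient.eq, RingHom.mem_ker, map_sub, sub_eq_zero] at this
    exact this.trans (hc x)
  have : ∀ x, Module.Finite k (T.residueField x) := fun x ↦
    Module.Finite.of_surjective (ev x).toLinearMap (hsurj x)
  have hdeg : ∀ x, p.residueDegree x = Module.finrank k (T.residueField x) := by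
    intro x
    letI : Algebra ((Spec (CommRingCat.of k)).residueField (p x)) (T.residueField x) :=
      (p.residueFieldMap x).hom.toAlgebra
    let e : k →+* (Spec (CommRingCat.of k)).residueField (p x) :=
      ((Scheme.ΓSpecIso (.of k)).inv ≫ (Spec (.of k)).Γevaluation (p x)).hom
    have hprime : ∀ P : Ideal Γ(Spec (CommRingCat.of k), ⊤), P.IsPrime → P.IsMaximal := by
      intro P hP
      have : IsField Γ(Spec (CommRingCat.of k), ⊤) :=
        (Scheme.ΓSpecIso (CommRingCat.of k)).commRingCatIsoToRingEquiv.toMulEquiv.isField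
          (Field.toIsField k)
      letI := this.toField
      rw [(Ideal.eq_bot_or_top P).resolve_right hP.ne_top]
      exact Ideal.bot_isMaximal
    have he : Function.Bijective e :=
      ⟨RingHom.injective e, (Γevaluation_surjective _ (hprime _ inferInstance)).comp
        (ConcreteCategory.bijective_of_isIso (Scheme.ΓSpecIso (CommRingCat.of k)).inv).2⟩
    refine (Algebra.finrank_eq_of_equiv_equiv (RingEquiv.ofBijective e he) (RingEquiv.refl _) ?_).symm
    ext a
    exact Scheme.Γevaluation_naturality_apply p x _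
  refine ⟨hT, fun x ↦ (hdeg x).symm ▸ Module.finrank_pos, ?_⟩
  rw [finsum_eq_sum_of_fintype, Finset.sum_congr rfl fun x _ ↦ hdeg x,
    ← Module.finrank_pi_fintype k]
  exact ((LinearMap.pi fun x ↦ (ev x).toLinearMap).finrank_le_finrank_of_surjective hψ).trans hle

theorem natCard_le {k : Type u} [Field k] {T : Scheme.{u}}
    {p : T ⟶ Spec (CommRingCat.of k)} {n : ℕ} (h : BddFib.FiniteOfDegLE (.of k) p n) :
    Finite T ∧ Nat.card T ≤ n := by
  obtain ⟨hT, hpos, hle⟩ := finite_and_finsum_residueDegree_le h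
  refine ⟨hT, le_trans ?_ hle⟩
  have := Fintype.ofFinite T
  rw [finsum_eq_sum_of_fintype, Nat.card_eq_fintype_card, ← Finset.card_univ,
    Finset.card_eq_sum_ones]
  exact Finset.sum_le_sum fun x _ ↦ hpos x

end Groth.Agent.BddFibLib
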