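import Mathlib.AlgebraicGeometry.Artinian
import Groth.Agent.BddFibLib.Points

/-!
# Finite schemes over fields are discrete
-/

universe u

open CategoryTheory CategoryTheory.Limits AlgebraicGeometry

namespace Groth.Agent.BddFibLib

theorem isArtinianRing_of_finiteOfDegLE {k : Type u} [Field k] {T : Scheme.{u}}
    {p : T ⟶ Spec (CommRingCat.of k)} {n : ℕ} (h : BddFib.FiniteOfDegLE (.of k) p n) :
    IsArtinianRing Γ(T, ⊤) := by
  obtain ⟨_, hfin, -⟩ := h
  letI := BddFib.secAlgebra (.of k) p
  have : Module.Finite k Γ(T, ⊤) := hfin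
  exact IsArtinianRing.of_finite k _

theorem discreteTopology_of_finiteOfDegLE {k : Type u} [Field k] {T : Scheme.{u}}
    {p : T ⟶ Spec (CommRingCat.of k)} {n : ℕ} (h : BddFib.FiniteOfDegLE (.of k) p n) :
    DiscreteTopology T ∧ Finite T := by
  have := isArtinianRing_of_finiteOfDegLE h
  have : IsAffine T := h.1
  have : DiscreteTopology ↥(Spec Γ(T, ⊤)) := inferInstanceAs (DiscreteTopology (PrimeSpectrum _))
  have : Finite ↥(Spec Γ(T, ⊤)) := inferInstanceAs (Finite (PrimeSpectrum _))
  exact ⟨T.isoSpec.hom.homeomorph.symm.discreteTopology,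
    Finite.of_equiv _ T.isoSpec.hom.homeomorph.toEquiv.symm⟩

theorem discreteTopology_of_fibreDegLE {T W : Scheme.{u}} (h : T ⟶ W) [DiscreteTopology W]
    [Finite W] {n : ℕ} (hh : BddFib.FibreDegLE h n) : DiscreteTopology T ∧ Finite T := by
  have hd := fun w ↦ discreteTopology_of_finiteOfDegLE (k := W.residueField w) (hh w)
  refine ⟨discreteTopology_iff_isOpen_singleton.mpr fun x ↦ ?_, ?_⟩
  · have := (hd (h x)).1
    let e := h.fiberHomeo (h x)
    have ho : IsOpen ({e.symm ⟨x, rfl⟩} : Set (h.fiber (h x))) := isOpen_discrete _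
    have hE : Topology.IsOpenEmbedding (fun z ↦ (e z : T)) :=
      ((isOpen_discrete {h x}).preimage h.continuous).isOpenEmbedding_subtypeVal.comp
        e.isOpenEmbedding
    convert hE.isOpenMap _ ho
    simp
  · have : ∀ w, Finite (h ⁻¹' {w} : Set T) := fun w ↦
      have := (hd w).2
      Finite.of_equiv _ (h.fiberHomeo w).toEquiv
    exact Finite.of_equiv _ (Equiv.sigmaPreimageEquiv (h : T → W))

end Groth.Agent.BddFibLib
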