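import Mathlib.RingTheory.Artinian.Module
import Mathlib.RingTheory.Artinian.Instances
import Mathlib.RingTheory.Artinian.Ring
import Mathlib.RingTheory.Ideal.Quotient.Operations
import Groth.Agent.FlatBasics.DeformAlg

/-!
# Generating modules over artinian rings
-/

universe u

namespace Groth.Agent.BddFibLib

theorem exists_span_eq_top_of_isArtinianRing {A M : Type u} [CommRing A] [IsArtinianRing A]
    [AddCommGroup M] [Module A M] (n : ℕ)
    (h : ∀ m : Ideal A, m.IsMaximal → ∃ g : Fin n → M,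
      Submodule.span A (Set.range g) ⊔ m • ⊤ = ⊤) :
    ∃ v : Fin n → M, Submodule.span A (Set.range v) = ⊤ := by
  classical
  have := Fintype.ofFinite (MaximalSpectrum A)
  choose g hg using fun m : MaximalSpectrum A ↦ h m.asIdeal m.isMaximal
  have he : ∀ m : MaximalSpectrum A, ∃ e : A, e - 1 ∈ m.asIdeal ∧ ∀ m', m' ≠ m → e ∈ m'.asIdeal := by
    intro m
    have hcop : Pairwise (Function.onFun IsCoprime fun m : MaximalSpectrum A ↦ m.asIdeal) :=
      fun a b hab ↦ Ideal.isCoprime_of_isMaximal fun e ↦ hab (MaximalSpectrum.ext e)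
    obtain ⟨e, he⟩ := Ideal.exists_forall_sub_mem_ideal hcop
      (fun m' ↦ if m' = m then (1 : A) else 0)
    exact ⟨e, by simpa using he m, fun m' hm' ↦ by simpa [hm'] using he m'⟩
  choose e he₁ he₂ using he
  let v : Fin n → M := fun i ↦ ∑ m, e m • g m i
  let S : Submodule A M := Submodule.span A (Set.range v)
  have hS : ∀ m : MaximalSpectrum A, S ⊔ m.asIdeal • ⊤ = ⊤ := by
    intro m
    refine eq_top_iff.mpr ((hg m).ge.trans (sup_le (Submodule.span_le.mpr ?_) le_sup_right))
    rintro _ ⟨i, rfl⟩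
    have hd : v i - g m i ∈ m.asIdeal • (⊤ : Submodule A M) := by
      have : v i - g m i = (e m - 1) • g m i + ∑ m' ∈ Finset.univ.erase m, e m' • g m' i := by
        simp only [v]
        rw [← Finset.add_sum_erase _ _ (Finset.mem_univ m), sub_smul, one_smul]
        abel
      rw [this]
      refine add_mem (Submodule.smul_mem_smul (he₁ m) trivial) (Submodule.sum_mem _ fun m' hm' ↦ ?_)
      exact Submodule.smul_mem_smul (he₂ m' m (Finset.ne_of_mem_erase hm').symm) trivial
    refine Submodule.mem_sup.mpr ⟨v i, Submodule.subset_span ⟨i, rfl⟩, -(v i - g m i), neg_mem hd, by abel⟩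
  refine ⟨v, FlatBasics.eq_top_of_sup_smul_top_of_isNilpotent (I := ∏ m : MaximalSpectrum A, m.asIdeal) ?_ ?_⟩
  · obtain ⟨k, hk⟩ := IsArtinianRing.isNilpotent_jacobson_bot (R := A)
    refine ⟨k, le_bot_iff.mp ((Ideal.pow_right_mono ?_ k).trans hk.le)⟩
    exact le_sInf fun m hm ↦ Ideal.prod_le_inf.trans
      (Finset.inf_le (f := fun m : MaximalSpectrum A ↦ m.asIdeal) (Finset.mem_univ ⟨m, hm.2⟩))
  · suffices ∀ s : Finset (MaximalSpectrum A), S ⊔ (∏ m ∈ s, m.asIdeal) • ⊤ = ⊤ from this _
    intro s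
    induction s using Finset.induction_on with
    | empty => simp
    | insert m s hms ih =>
      rw [Finset.prod_insert hms, eq_top_iff]
      calc ⊤ = S ⊔ m.asIdeal • (⊤ : Submodule A M) := (hS m).symm
        _ ≤ S ⊔ m.asIdeal • (S ⊔ (∏ m ∈ s, m.asIdeal) • ⊤) := by rw [ih]
        _ ≤ S ⊔ (m.asIdeal * ∏ m ∈ s, m.asIdeal) • ⊤ := by
          rw [Submodule.smul_sup, ← Submodule.smul_assoc, smul_eq_mul]
          exact sup_le le_sup_left (sup_le (Submodule.smul_le_right.trans le_sup_left) le_sup_right)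

end Groth.Agent.BddFibLib
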