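import Mathlib.AlgebraicGeometry.Limits
import Groth.Agent.BddFibLib.Discrete
import Groth.Agent.BddFibLib.ArtinSpan
import Groth.Agent.FpqcDescent.IdealComap

/-!
# Fibre degrees of composites
-/

universe u

open CategoryTheory CategoryTheory.Limits AlgebraicGeometry

namespace Groth.Agent.BddFibLib

variable {T W : Scheme.{u}}

theorem exists_span_sup_smul_eq_top [IsAffine T] [IsAffine W] (h : T ⟶ W) {n : ℕ}
    (hh : BddFib.FibreDegLE h n) (P : Ideal Γ(W, ⊤)) [P.IsMaximal] :
    letI := h.appTop.hom.toAlgebra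
    ∃ g : Fin n → Γ(T, ⊤), Submodule.span Γ(W, ⊤) (Set.range g) ⊔ P • ⊤ = ⊤ := by
  classical
  letI := h.appTop.hom.toAlgebra
  letI : Field (Γ(W, ⊤) ⧸ P) := Ideal.Quotient.field P
  let j : Spec (CommRingCat.of (Γ(W, ⊤) ⧸ P)) ⟶ W :=
    Spec.map (CommRingCat.ofHom (Ideal.Quotient.mk P)) ≫ W.isoSpec.inv
  have : IsAffine (pullback h j) := inferInstance
  have hpb : IsPullback (pullback.fst h j) (pullback.snd h j) h j := IsPullback.of_hasPullback h j
  obtain ⟨-, hfin, hle⟩ := finiteOfDegLE_of_fibreDegLE hh hpb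
  let K : CommRingCat.{u} := .of (Γ(W, ⊤) ⧸ P)
  letI algK : Algebra (Γ(W, ⊤) ⧸ P) Γ(pullback h j, ⊤) := BddFib.secAlgebra K (pullback.snd h j)
  have : Module.Finite (Γ(W, ⊤) ⧸ P) Γ(pullback h j, ⊤) := hfin
  have hpo := isPushout_appTop_of_isPullback hpb
  have hjs : Function.Surjective j.appTop := by
    have : IsClosedImmersion j := by
      have : IsClosedImmersion (Spec.map (CommRingCat.ofHom (Ideal.Quotient.mk P))) :=
        IsClosedImmersion.spec_of_surjective _ Ideal.Quotient.mk_surjective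
      infer_instance
    exact j.app_surjective ⊤ (isAffineOpen_top W)
  have hj : j.appTop = CommRingCat.ofHom (Ideal.Quotient.mk P) ≫ (Scheme.ΓSpecIso K).inv := by
    rw [Scheme.ΓSpecIso_inv_naturality, Scheme.Hom.comp_appTop]
    congr 1
    have : IsIso W.isoSpec.hom.appTop := inferInstanceAs (IsIso (Scheme.Γ.map W.isoSpec.hom.op))
    rw [← cancel_mono W.isoSpec.hom.appTop, ← Scheme.Hom.comp_appTop]
    simp [Scheme.isoSpec_hom]
    exact (Scheme.ΓSpecIso Γ(W, ⊤)).inv_hom_id.symm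
  have hker : RingHom.ker j.appTop.hom = P := by
    rw [hj, CommRingCat.hom_comp, RingHom.ker_comp_of_injective _
      (ConcreteCategory.bijective_of_isIso (Scheme.ΓSpecIso K).inv).1, CommRingCat.hom_ofHom,
      Ideal.mk_ker]
  let b := Module.finBasis (Γ(W, ⊤) ⧸ P) Γ(pullback h j, ⊤)
  have hqs : Function.Surjective (pullback.fst h j).appTop := by
    have : IsClosedImmersion j := by
      have : IsClosedImmersion (Spec.map (CommRingCat.ofHom (Ideal.Quotient.mk P))) :=
        IsClosedImmersion.spec_of_surjective _ Ideal.Quotient.mk_surjective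
      infer_instance
    exact (pullback.fst h j).app_surjective ⊤ (isAffineOpen_top T)
  choose c hc using fun i ↦ hqs (b i)
  let g : Fin n → Γ(T, ⊤) := fun i ↦
    if hi : (i : ℕ) < Module.finrank (Γ(W, ⊤) ⧸ P) Γ(pullback h j, ⊤) then c ⟨i, hi⟩ else 0
  refine ⟨g, eq_top_iff.mpr fun x _ ↦ ?_⟩
  obtain ⟨a, ha⟩ : ∃ a : Fin (Module.finrank (Γ(W, ⊤) ⧸ P) Γ(pullback h j, ⊤)) → Γ(W, ⊤),
      ∀ i, Ideal.Quotient.mk P (a i) = b.repr ((pullback.fst h j).appTop x) i := by
    choose a ha using fun i ↦ Ideal.Quotient.mk_surjective (b.repr ((pullback.fst h j).appTop x) i)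
    exact ⟨a, ha⟩
  let y := ∑ i, a i • c i
  refine Submodule.mem_sup.mpr ⟨y, ?_, x - y, ?_, add_sub_cancel _ _⟩
  · refine Submodule.sum_mem _ fun i _ ↦ Submodule.smul_mem _ _ (Submodule.subset_span
      ⟨⟨i, i.2.trans_le hle⟩, ?_⟩)
    simp [g]
  · have hxy : x - y ∈ RingHom.ker (pullback.fst h j).appTop.hom := by
      rw [RingHom.mem_ker, map_sub, sub_eq_zero]
      conv_lhs => rw [← b.sum_repr ((pullback.fst h j).appTop x)]
      simp only [y, map_sum]
      refine Finset.sum_congr rfl fun i _ ↦ ?_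
      rw [← ha i, ← hc i, Algebra.smul_def, Algebra.smul_def, map_mul]
      congr 1
      have hcomm := congr($(hpo.w).hom (a i))
      simp only [CommRingCat.hom_comp, RingHom.comp_apply] at hcomm
      refine Eq.trans ?_ hcomm.symm
      rw [hj]
      rfl
    rw [FpqcDescent.ker_eq_map_of_isPushout hpo hjs, hker] at hxy
    rw [Ideal.smul_top_eq_map, Submodule.restrictScalars_mem]
    exact hxy

theorem finiteOfDegLE_comp {k : Type u} [Field k] (h : T ⟶ W) (q : W ⟶ Spec (CommRingCat.of k))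
    {n m : ℕ} (hq : BddFib.FiniteOfDegLE (.of k) q m) (hh : BddFib.FibreDegLE h n) :
    BddFib.FiniteOfDegLE (.of k) (h ≫ q) (n * m) := by
  have := isArtinianRing_of_finiteOfDegLE hq
  obtain ⟨_, _⟩ := discreteTopology_of_finiteOfDegLE hq
  obtain ⟨_, _⟩ := discreteTopology_of_fibreDegLE h hh
  obtain ⟨_, hfin, hle⟩ := hq
  have : IsAffine T := inferInstance
  letI := BddFib.secAlgebra (.of k) q
  letI := BddFib.secAlgebra (.of k) (h ≫ q)
  letI := h.appTop.hom.toAlgebra
  have : IsScalarTower k Γ(W, ⊤) Γ(T, ⊤) := IsScalarTower.of_algebraMap_eq' (by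
    change ((Scheme.ΓSpecIso (.of k)).inv ≫ (h ≫ q).appTop).hom = _
    rw [Scheme.Hom.comp_appTop]
    rfl)
  have : Module.Finite k Γ(W, ⊤) := hfin
  obtain ⟨v, hv⟩ := exists_span_eq_top_of_isArtinianRing n
    (fun P hP ↦ exists_span_sup_smul_eq_top h hh P)
  let φ : (Fin n → Γ(W, ⊤)) →ₗ[k] Γ(T, ⊤) :=
    (Fintype.linearCombination Γ(W, ⊤) v).restrictScalars k
  have hφ : Function.Surjective φ := by
    have : LinearMap.range (Fintype.linearCombination Γ(W, ⊤) v) = ⊤ := by
      rw [Fintype.range_linearCombination, hv]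
    exact (LinearMap.range_eq_top (f := Fintype.linearCombination Γ(W, ⊤) v)).mp this
  refine ⟨‹_›, Module.Finite.of_surjective φ hφ, (φ.finrank_le_finrank_of_surjective hφ).trans ?_⟩
  rw [Module.finrank_pi_fintype k, Finset.sum_const, Finset.card_univ, Fintype.card_fin, smul_eq_mul]
  exact Nat.mul_le_mul_left n hle

end Groth.Agent.BddFibLib
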