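import Mathlib.AlgebraicGeometry.Morphisms.QuasiFinite
import Mathlib.RingTheory.ZariskisMainTheorem
import Groth.Agent.BddFibLib.Discrete
import Groth.Agent.S7436
import Groth.Agent.S7439

/-!
# Universally bounded fibres for quasi-finite morphisms
-/

universe u

open CategoryTheory CategoryTheory.Limits AlgebraicGeometry

namespace Groth.Agent.BddFibLib

theorem univBounded_comp {X Y Z : Scheme.{u}} {f : X ⟶ Y} {g : Y ⟶ Z}
    (hf : BddFib.UnivBounded f) (hg : BddFib.UnivBounded g) : BddFib.UnivBounded (f ≫ g) := by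
  obtain ⟨n, hn⟩ := hf
  obtain ⟨m, hm⟩ := hg
  exact ⟨n * m, Groth.Agent.S7436.result f g n m hn hm⟩

theorem univBounded_of_isImmersion {X Y : Scheme.{u}} (f : X ⟶ Y) [IsImmersion f] :
    BddFib.UnivBounded f :=
  ⟨1, Groth.Agent.S7439.result f⟩

open TensorProduct in
theorem univBounded_SpecMap_of_finite (A C : Type u) [CommRing A] [CommRing C] [Algebra A C]
    [Module.Finite A C] : BddFib.UnivBounded (Spec.map (CommRingCat.ofHom (algebraMap A C))) := by
  classical
  obtain ⟨r, π, hπ⟩ := Module.Finite.exists_fin' A C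
  refine ⟨r, fun y ↦ ?_⟩
  change PrimeSpectrum A at y
  have : Nontrivial A := ⟨⟨0, 1, fun h ↦ y.isPrime.ne_top (Ideal.eq_top_of_isUnit_mem _ (zero_mem _) (h ▸ isUnit_one))⟩⟩
  let g : C ⊗[A] y.asIdeal.ResidueField →+* C ⊗[A] y.asIdeal.ResidueField := RingHom.id _
  let e := Spec.fiberToSpecResidueFieldIso A C y
  have key : BddFib.FiniteOfDegLE (.of y.asIdeal.ResidueField) (Spec.map <| CommRingCat.ofHom <|
      algebraMap y.asIdeal.ResidueField (y.asIdeal.Fiber C)) r := by
    rw [finiteOfDegLE_iff]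
    have : Module.Finite y.asIdeal.ResidueField (y.asIdeal.Fiber C) := inferInstance
    refine ⟨(IsFinite.SpecMap_iff _).mpr (RingHom.finite_algebraMap.mpr this), fun x ↦ ?_⟩
    rw [Scheme.Hom.finrank_SpecMap_algebraMap]
    rw [show Module.rankAtStalk (R := y.asIdeal.ResidueField) (y.asIdeal.Fiber C) x =
      Module.finrank y.asIdeal.ResidueField (y.asIdeal.Fiber C) from
        congrFun Module.rankAtStalk_eq_finrank_of_free x]
    refine ((π.baseChange y.asIdeal.ResidueField).finrank_le_finrank_of_surjective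
      (LinearMap.lTensor_surjective _ hπ)).trans (le_of_eq ?_)
    rw [Module.finrank_baseChange, Module.finrank_pi, Fintype.card_fin]
  exact (finiteOfDegLE_iff_of_isPullback
    (k' := (Spec (CommRingCat.of A)).residueField y) (k := y.asIdeal.ResidueField)
    (IsPullback.of_horiz_isIso ⟨(Arrow.w_mk_right e.hom)⟩) r).mpr key

theorem awayMap_algebraMap {A B : Type u} [CommRing A] [CommRing B] (g : A →+* B) (r x : A) :
    Localization.awayMap g r (algebraMap A (Localization.Away r) x) =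
      algebraMap B (Localization.Away (g r)) (g x) := by
  rw [Localization.awayMap, IsLocalization.Away.map, IsLocalization.map_eq]

theorem univBounded_of_piece {X Y : Scheme.{u}} (f : X ⟶ Y) [LocallyQuasiFinite f]
    [LocallyOfFiniteType f] (x : X) :
    ∃ W : X.Opens, x ∈ W ∧ BddFib.UnivBounded (W.ι ≫ f) := by
  obtain ⟨_, ⟨U, hU, rfl⟩, hxU, -⟩ :=
    Y.isBasis_affineOpens.exists_subset_of_mem_open (Set.mem_univ (f x)) isOpen_univ
  obtain ⟨_, ⟨V, hV, rfl⟩, hxV, hVU⟩ :=
    X.isBasis_affineOpens.exists_subset_of_mem_open hxU (f ⁻¹ᵁ U).isOpen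
  have hqf := LocallyQuasiFinite.quasiFinite_appLE (f := f) hU hV hVU
  have hft := f.finiteType_appLE hU hV hVU
  algebraize [(f.appLE U V hVU).hom]
  obtain ⟨C, hC, r, hr, hbij⟩ :=
    Algebra.QuasiFiniteAt.exists_fg_and_exists_notMem_and_awayMap_bijective (R := Γ(Y, U))
      (hV.primeIdealOf ⟨x, hxV⟩).asIdeal
  have : Module.Finite Γ(Y, U) C := Module.Finite.of_fg hC
  let i : Spec (CommRingCat.of (Localization.Away (r : Γ(X, V)))) ⟶ X :=
    Spec.map (CommRingCat.ofHom (algebraMap Γ(X, V) _)) ≫ hV.fromSpec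
  have hi : IsOpenImmersion (Spec.map (CommRingCat.ofHom
      (algebraMap Γ(X, V) (Localization.Away (r : Γ(X, V)))))) :=
    IsOpenImmersion.of_isLocalization (r : Γ(X, V))
  have hj : IsOpenImmersion (Spec.map (CommRingCat.ofHom
      (algebraMap C (Localization.Away r)))) :=
    IsOpenImmersion.of_isLocalization r
  let φ : CommRingCat.of (Localization.Away r) ⟶ CommRingCat.of (Localization.Away (r : Γ(X, V))) :=
    CommRingCat.ofHom (Localization.awayMap C.val.toRingHom r)
  have : IsIso φ := (ConcreteCategory.isIso_iff_bijective φ).mpr hbij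
  have hsq : CommRingCat.ofHom (algebraMap Γ(Y, U) C) ≫
      CommRingCat.ofHom (algebraMap C (Localization.Away r)) ≫ φ =
      f.appLE U V hVU ≫ CommRingCat.ofHom (algebraMap Γ(X, V) (Localization.Away (r : Γ(X, V)))) := by
    apply CommRingCat.hom_ext
    ext a
    exact (awayMap_algebraMap C.val.toRingHom r (algebraMap Γ(Y, U) C a)).trans rfl
  have hfac : i ≫ f = (Spec.map φ ≫ Spec.map (CommRingCat.ofHom (algebraMap C (Localization.Away r)))) ≫
      (Spec.map (CommRingCat.ofHom (algebraMap Γ(Y, U) C)) ≫ hU.fromSpec) := by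
    rw [Category.assoc, ← hU.SpecMap_appLE_fromSpec f hV hVU, ← Spec.map_comp_assoc, ← hsq,
      Spec.map_comp, Spec.map_comp]
    simp
  have hib : BddFib.UnivBounded (i ≫ f) := by
    rw [hfac]
    exact univBounded_comp (univBounded_of_isImmersion _)
      (univBounded_comp (univBounded_SpecMap_of_finite _ _) (univBounded_of_isImmersion _))
  refine ⟨i.opensRange, ?_, ?_⟩
  · obtain ⟨z, hz⟩ : (hV.primeIdealOf ⟨x, hxV⟩) ∈ Set.range (PrimeSpectrum.comap
        (algebraMap Γ(X, V) (Localization.Away (r : Γ(X, V))))) := by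
      rw [PrimeSpectrum.localization_away_comap_range _ (r : Γ(X, V))]
      exact hr
    exact ⟨z, (congrArg hV.fromSpec hz).trans (hV.fromSpec_primeIdealOf ⟨x, hxV⟩)⟩
  · have e : i.isoOpensRange.inv ≫ i = i.opensRange.ι := Scheme.Hom.isoOpensRange_inv_comp i
    rw [← e, Category.assoc]
    exact univBounded_comp (univBounded_of_isImmersion _) hib

theorem finiteOfDegLE_of_iSup_eq_top {k : Type u} [Field k] {T : Scheme.{u}}
    (p : T ⟶ Spec (CommRingCat.of k)) {ι : Type u} [Fintype ι] (U : ι → T.Opens)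
    (hU : ⨆ i, U i = ⊤) (n : ι → ℕ) (h : ∀ i, BddFib.FiniteOfDegLE (.of k) ((U i).ι ≫ p) (n i)) :
    BddFib.FiniteOfDegLE (.of k) p (∑ i, n i) := by
  have hd := fun i ↦ discreteTopology_of_finiteOfDegLE (h i)
  have hmem : ∀ x : T, ∃ i, x ∈ U i := fun x ↦
    TopologicalSpace.Opens.mem_iSup.mp (hU.ge (TopologicalSpace.Opens.mem_top x))
  have : DiscreteTopology T := discreteTopology_iff_isOpen_singleton.mpr fun x ↦ by
    obtain ⟨i, hi⟩ := hmem x
    have := (hd i).1
    convert (U i).ι.isOpenEmbedding.isOpenMap _ (isOpen_discrete ({⟨x, hi⟩} : Set (U i)))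
    simp
  have : Finite T := by
    have := fun i ↦ (hd i).2
    exact Finite.of_surjective (fun z : Σ i, U i ↦ (U z.1).ι z.2)
      fun x ↦ ⟨⟨(hmem x).choose, x, (hmem x).choose_spec⟩, rfl⟩
  have : IsAffine T := inferInstance
  letI := BddFib.secAlgebra (.of k) p
  letI := fun i ↦ BddFib.secAlgebra (.of k) ((U i).ι ≫ p)
  let ev : ∀ i, Γ(T, ⊤) →ₐ[k] Γ((U i).toScheme, ⊤) := fun i ↦
    { (U i).ι.appTop.hom with
      commutes' := fun a ↦ by
        change _ = ((Scheme.ΓSpecIso (.of k)).inv ≫ ((U i).ι ≫ p).appTop).hom a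
        rw [Scheme.Hom.comp_appTop]
        rfl }
  let φ : Γ(T, ⊤) →ₗ[k] (∀ i, Γ((U i).toScheme, ⊤)) := LinearMap.pi fun i ↦ (ev i).toLinearMap
  have hinj : Function.Injective φ := by
    rw [injective_iff_map_eq_zero]
    intro s hs
    refine TopCat.Presheaf.section_ext T.sheaf ⊤ s 0 fun x _ ↦ ?_
    obtain ⟨i, hi⟩ := hmem x
    have h0 : (U i).ι.app ⊤ s = 0 := congrFun hs i
    have e1 := Scheme.Hom.germ_stalkMap_apply (U i).ι ⊤ ⟨x, hi⟩ trivial s
    rw [h0, map_zero] at e1
    apply (ConcreteCategory.bijective_of_isIso ((U i).ι.stalkMap ⟨x, hi⟩)).1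
    exact e1.trans ((congrArg _ (map_zero _)).trans (map_zero _)).symm
  have : ∀ i, Module.Finite k Γ((U i).toScheme, ⊤) := fun i ↦ (h i).2.1
  refine ⟨‹_›, Module.Finite.of_injective φ hinj,
    (LinearMap.finrank_le_finrank_of_injective hinj).trans ?_⟩
  rw [Module.finrank_pi_fintype k]
  exact Finset.sum_le_sum fun i _ ↦ (h i).2.2

theorem fibreDegLE_of_iSup_eq_top {X Y : Scheme.{u}} (f : X ⟶ Y) {ι : Type u} [Fintype ι]
    (U : ι → X.Opens) (hU : ⨆ i, U i = ⊤) (n : ι → ℕ)
    (h : ∀ i, BddFib.FibreDegLE ((U i).ι ≫ f) (n i)) : BddFib.FibreDegLE f (∑ i, n i) := by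
  intro y
  refine finiteOfDegLE_of_iSup_eq_top (k := Y.residueField y) _
    (fun i ↦ f.fiberι y ⁻¹ᵁ U i) ?_ n fun i ↦ ?_
  · rw [← Scheme.Hom.preimage_iSup, hU, Scheme.Hom.preimage_top]
  · exact finiteOfDegLE_of_fibreDegLE (k := Y.residueField y) (h i)
      ((isPullback_morphismRestrict (f.fiberι y) (U i)).paste_vert
        (IsPullback.of_hasPullback f (Y.fromSpecResidueField y)))

end Groth.Agent.BddFibLib
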