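import Mathlib.AlgebraicGeometry.Limits
import Mathlib.AlgebraicGeometry.Morphisms.Flat
import Groth.Agent.FpqcDescent.Flat
import Groth.Agent.BddFibLib.Discrete

/-!
# Fibre degrees along flat surjective morphisms
-/

universe u

open CategoryTheory CategoryTheory.Limits AlgebraicGeometry

namespace Groth.Agent.BddFibLib

theorem app_injective_of_flat_of_surjective {X Y : Scheme.{u}} (g : X ⟶ Y) [Flat g] [Surjective g]
    (U : Y.Opens) : Function.Injective (g.app U) := by
  rw [injective_iff_map_eq_zero]
  intro s hs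
  refine TopCat.Presheaf.section_ext Y.sheaf U s 0 fun y hy ↦ ?_
  obtain ⟨x, rfl⟩ := g.surjective y
  have hff : (g.stalkMap x).hom.FaithfullyFlat :=
    Groth.Agent.FpqcDescent.faithfullyFlat_stalkMap g x (Flat.stalkMap g x)
  have e1 := Scheme.Hom.germ_stalkMap_apply g U x hy s
  rw [hs, map_zero] at e1
  apply hff.injective
  exact e1.trans ((congrArg _ (map_zero _)).trans (map_zero _)).symm

theorem finiteOfDegLE_of_flat_surjective {k : Type u} [Field k] {T W : Scheme.{u}} (h : T ⟶ W)
    [Flat h] [Surjective h] (q : W ⟶ Spec (CommRingCat.of k)) {n : ℕ}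
    (hc : BddFib.FiniteOfDegLE (.of k) (h ≫ q) n) : BddFib.FiniteOfDegLE (.of k) q n := by
  obtain ⟨_, _⟩ := discreteTopology_of_finiteOfDegLE hc
  have : Finite W := Finite.of_surjective _ h.surjective
  have hgen : GeneralizingMap h := Flat.generalizingMap h
  have : T1Space W := t1Space_iff_specializes_imp_eq.mpr fun y y' hy ↦ by
    obtain ⟨x, rfl⟩ := h.surjective y'
    obtain ⟨x', hx', rfl⟩ := hgen hy
    rw [hx'.eq]
  have : DiscreteTopology W := inferInstance
  have : IsAffine W := inferInstance
  obtain ⟨_, hfin, hle⟩ := hc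
  letI := BddFib.secAlgebra (.of k) q
  letI := BddFib.secAlgebra (.of k) (h ≫ q)
  have : Module.Finite k Γ(T, ⊤) := hfin
  let φ : Γ(W, ⊤) →ₐ[k] Γ(T, ⊤) :=
    { h.appTop.hom with
      commutes' := fun a ↦ by
        change _ = ((Scheme.ΓSpecIso (.of k)).inv ≫ (h ≫ q).appTop).hom a
        rw [Scheme.Hom.comp_appTop]
        rfl }
  have hinj : Function.Injective φ.toLinearMap := app_injective_of_flat_of_surjective h ⊤
  exact ⟨‹_›, Module.Finite.of_injective φ.toLinearMap hinj,
    (LinearMap.finrank_le_finrank_of_injective hinj).trans hle⟩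

end Groth.Agent.BddFibLib
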