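import Mathlib.AlgebraicGeometry.Morphisms.QuasiFinite
import Mathlib.AlgebraicGeometry.Morphisms.Etale
import Mathlib.RingTheory.Etale.Field
import Mathlib.FieldTheory.IsAlgClosed.AlgebraicClosure
import Groth.Agent.BddFibLib.Basic

/-!
# Étale schemes over separably closed fields
-/

universe u

open CategoryTheory CategoryTheory.Limits AlgebraicGeometry

namespace Groth.Agent.BddFibLib

theorem finiteOfDegLE_of_etale_of_natCard_le {K : Type u} [Field K] [IsSepClosed K] {T : Scheme.{u}}
    (q : T ⟶ Spec (CommRingCat.of K)) [Etale q] [Finite T] {n : ℕ} (h : Nat.card T ≤ n) :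
    BddFib.FiniteOfDegLE (.of K) q n := by
  have : QuasiCompact q := quasiCompact_of_compactSpace q
  have : LocallyQuasiFinite q := .of_finite_preimage_singleton q fun _ ↦ Set.toFinite _
  have : IsFinite q := IsFinite.of_locallyQuasiFinite q
  have : IsAffine T := isAffine_of_isAffineHom q
  letI := BddFib.secAlgebra (.of K) q
  have he : q.appTop.hom.Etale := HasRingHomProperty.appTop @Etale q ‹_›
  have : Algebra.Etale K Γ(T, ⊤) := by
    rw [← RingHom.etale_algebraMap]
    exact (RingHom.Etale.respectsIso.2 q.appTop.hom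
      (Scheme.ΓSpecIso (CommRingCat.of K)).symm.commRingCatIsoToRingEquiv he)
  have hfin : Module.Finite K Γ(T, ⊤) := Algebra.FormallyUnramified.finite_of_free K _
  refine ⟨‹_›, hfin, ?_⟩
  have hT : Nat.card (PrimeSpectrum Γ(T, ⊤)) = Nat.card T :=
    Nat.card_congr T.isoSpec.hom.homeomorph.toEquiv.symm
  have : Finite (PrimeSpectrum Γ(T, ⊤)) := Finite.of_equiv _ T.isoSpec.hom.homeomorph.toEquiv
  have := Fintype.ofFinite (PrimeSpectrum Γ(T, ⊤))
  refine le_trans (le_of_eq ?_) h
  rw [(Algebra.FormallyEtale.equivPiOfIsSepClosed K Γ(T, ⊤)).toLinearEquiv.finrank_eq,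
    Module.finrank_pi, ← hT, Nat.card_eq_fintype_card]

end Groth.Agent.BddFibLib
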